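import Groth.Agent.LambdaExt28.Poly

/-!
# The elementary extension as a λ-ring with positive structure
-/

set_option autoImplicit false
set_option linter.style.haveILetI false

universe u

open Finset LambdaRing Polynomial

noncomputable section

namespace Groth.Agent.LambdaExt28

open Groth.Agent.LambdaLib

section Quot

variable {R A : Type u} [CommRing R] [LambdaOps R] [CommRing A] {π : R →+* A} (hπ : Function.Surjective π)

include hπ in
/-- The λ-structure induced on a quotient by a stable ideal. -/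
theorem exists_quotOps (hker : ∀ z, π z = 0 → ∀ j, 1 ≤ j → π (LambdaOps.lam j z) = 0) :
    ∃ ops : LambdaOps A, ∀ (i : ℕ) (z : R), @LambdaOps.lam _ _ ops i (π z) = π (LambdaOps.lam i z) := by
  have hwd : ∀ (i : ℕ) (z z' : R), π z = π z' → π (LambdaOps.lam i z) = π (LambdaOps.lam i z') := by
    intro i z z' h
    rw [show z = z' + (z - z') by ring, LambdaOps.lam_add, map_sum, Finset.sum_range_succ, Nat.sub_self,
      LambdaOps.lam_zero, mul_one, Finset.sum_eq_zero, zero_add]
    intro k hk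
    rw [Finset.mem_range] at hk
    rw [map_mul, hker (z - z') (by rw [map_sub, h, sub_self]) _ (by omega), mul_zero]
  refine ⟨{
    lam := fun i x => π (LambdaOps.lam i (hπ x).choose)
    lam_zero := fun x => by rw [LambdaOps.lam_zero, map_one]
    lam_one := fun x => by rw [LambdaOps.lam_one, (hπ x).choose_spec]
    lam_add := fun k x y => by
      rw [hwd k _ ((hπ x).choose + (hπ y).choose) (by rw [(hπ (x + y)).choose_spec, map_add, (hπ x).choose_spec,
        (hπ y).choose_spec]), LambdaOps.lam_add, map_sum]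
      simp only [map_mul] }, fun i z => hwd i _ _ (hπ (π z)).choose_spec⟩

include hπ in
theorem isSpecial_quot (hR : IsSpecial R) [LambdaOps A]
    (h : ∀ (i : ℕ) (z : R), LambdaOps.lam i (π z) = π (LambdaOps.lam i z)) : IsSpecial A where
  lam_one_eq_zero n hn := by rw [← map_one π, h, hR.lam_one_eq_zero n hn, map_zero]
  lam_mul n P hP x y := by
    obtain ⟨x, rfl⟩ := hπ x
    obtain ⟨y, rfl⟩ := hπ y
    rw [← map_mul, h, hR.lam_mul n P hP, map_aeval_int]
    refine congrArg (fun g => MvPolynomial.aeval g P) (funext fun k => ?_)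
    rcases k with k | k <;> simp [h]
  lam_lam i j Q hQ x := by
    obtain ⟨x, rfl⟩ := hπ x
    rw [h, h, hR.lam_lam i j Q hQ, map_aeval_int]
    exact congrArg (fun g => MvPolynomial.aeval g Q) (funext fun k => (h _ _).symm)

end Quot

section Good

variable {A : Type u} [CommRing A] [LambdaOps A] (ε : A →+* ℤ)

/-- Behaving like a positive element. -/
def Good (x : A) : Prop :=
  0 < ε x ∧ (∀ i : ℕ, ε x < i → LambdaOps.lam i x = 0) ∧ IsUnit (LambdaOps.lam (ε x).toNat x)

variable {ε}

theorem Good.add {x y : A} (hx : Good ε x) (hy : Good ε y) : Good ε (x + y) := by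
  obtain ⟨r, hr⟩ : ∃ r : ℕ, ε x = r := ⟨_, (Int.toNat_of_nonneg hx.1.le).symm⟩
  obtain ⟨s, hs⟩ : ∃ s : ℕ, ε y = s := ⟨_, (Int.toNat_of_nonneg hy.1.le).symm⟩
  obtain ⟨hx1, hx2, hx3⟩ := hx
  obtain ⟨hy1, hy2, hy3⟩ := hy
  refine ⟨by rw [map_add]; omega, fun i hi => ?_, ?_⟩
  · rw [map_add, hr, hs] at hi
    rw [LambdaOps.lam_add]
    refine Finset.sum_eq_zero fun k _ => ?_
    rcases le_or_gt k r with hk | hk
    · rw [hy2 (i - k) (by rw [hs]; omega), mul_zero]
    · rw [hx2 k (by rw [hr]; omega), zero_mul]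
  · rw [map_add, hr, hs, LambdaOps.lam_add, show ((r : ℤ) + s).toNat = r + s by omega,
      Finset.sum_eq_single r]
    · rw [show r + s - r = s by omega]
      rw [hr, Int.toNat_natCast] at hx3
      rw [hs, Int.toNat_natCast] at hy3
      exact hx3.mul hy3
    · intro k hk hkr
      rw [Finset.mem_range] at hk
      rcases lt_or_gt_of_ne hkr with h | h
      · rw [hy2 (r + s - k) (by rw [hs]; omega), mul_zero]
      · rw [hx2 k (by rw [hr]; omega), zero_mul]
    · intro h; exact absurd (Finset.mem_range.2 (by omega)) h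

theorem Good.mul (hA : IsSpecial A) {x y : A} (hx : Good ε x) (hy : Good ε y) : Good ε (x * y) := by
  obtain ⟨r, hr⟩ : ∃ r : ℕ, ε x = r := ⟨_, (Int.toNat_of_nonneg hx.1.le).symm⟩
  obtain ⟨s, hs⟩ : ∃ s : ℕ, ε y = s := ⟨_, (Int.toNat_of_nonneg hy.1.le).symm⟩
  have := hx.1; have := hy.1
  obtain ⟨h1, h2⟩ := lam_mul_top hA (r := r) (s := s) (by omega) (by omega)
    (fun i hi => hx.2.1 i (by rw [hr]; omega)) (fun i hi => hy.2.1 i (by rw [hs]; omega))
  refine ⟨by rw [map_mul]; positivity, fun i hi => h1 i (by rw [map_mul, hr, hs] at hi; exact_mod_cast hi), ?_⟩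
  rw [map_mul, hr, hs, ← Nat.cast_mul, Int.toNat_natCast, h2]
  have h3 := hx.2.2
  have h4 := hy.2.2
  rw [hr, Int.toNat_natCast] at h3
  rw [hs, Int.toNat_natCast] at h4
  exact (h3.pow _).mul (h4.pow _)

end Good

variable {K : Type u} [CommRing K] [LambdaOps K] {P : PosStructure K} {e : K}

theorem monic_extPoly (P : PosStructure K) (e : K) : (KRR.extPoly P e).Monic := by
  haveI : Nontrivial K := P.aug.domain_nontrivial
  rw [KRR.extPoly, Finset.sum_range_succ']
  simp only [pow_zero, one_mul, LambdaOps.lam_zero, map_one, Nat.sub_zero]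
  refine (Polynomial.monic_X_pow _).add_of_right ?_
  refine lt_of_le_of_lt (Polynomial.degree_sum_le _ _) ?_
  rw [Polynomial.degree_X_pow, Finset.sup_lt_iff (WithBot.bot_lt_coe _)]
  intro i hi
  rw [Finset.mem_range] at hi
  refine lt_of_le_of_lt (Polynomial.degree_C_mul_X_pow_le _ _) ?_
  exact Nat.cast_lt.2 (by omega)

theorem eval_extPoly (hK : HasSplitting K P) (he : e ∈ P.pos) :
    (KRR.extPoly P e).eval₂ P.aug 1 = 0 := by
  rw [KRR.extPoly, Polynomial.eval₂_finsetSum]
  simp only [Polynomial.eval₂_mul, Polynomial.eval₂_C, Polynomial.eval₂_X_pow, one_pow, mul_one]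
  simp only [map_mul, map_pow, map_neg, map_one, aug_lam_eq_choose hK he]
  refine (Int.alternating_sum_range_choose).trans ?_
  rw [if_neg]
  have := P.aug_pos e he
  omega

/-- The elementary extension. -/
theorem exists_elementary (hK : HasSplitting K P) (he : e ∈ P.pos) :
    ∃ (inst : LambdaOps (AdjoinRoot (KRR.extPoly P e))) (Pe : @PosStructure _ _ inst),
      (∀ (i : ℕ) (x : K), @LambdaOps.lam _ _ inst i (AdjoinRoot.of (KRR.extPoly P e) x) =
        AdjoinRoot.of (KRR.extPoly P e) (LambdaOps.lam i x)) ∧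
      (∀ i : ℕ, 2 ≤ i → @LambdaOps.lam _ _ inst i (AdjoinRoot.root (KRR.extPoly P e)) = 0) ∧
      @IsExtension K _ _ _ _ inst P Pe (AdjoinRoot.of (KRR.extPoly P e)) ∧
      @PosStructure.IsLine _ _ inst Pe (AdjoinRoot.root (KRR.extPoly P e)) ∧
      (2 ≤ P.aug e → AdjoinRoot.of (KRR.extPoly P e) e - AdjoinRoot.root (KRR.extPoly P e) ∈
        (@PosStructure.pos _ _ inst Pe)) := by
  classical
  letI := polyOps (K := K)
  set p := KRR.extPoly P e with hp
  have h1 := lam_one_eq_zero P
  have hR := isSpecial_poly hK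
  have hπ : Function.Surjective (AdjoinRoot.mk p) := AdjoinRoot.mk_surjective
  obtain ⟨inst, hlam⟩ := exists_quotOps hπ fun z hz j hj => by
    rw [AdjoinRoot.mk_eq_zero] at hz ⊢
    obtain ⟨q, rfl⟩ := hz
    have h := dvd_lam_mul hR (fun j hj => hp ▸ extPoly_dvd_lam hK he j hj) (b := (1 : K[X])) (y := q)
      (fun _ _ => one_dvd _) j hj
    rwa [mul_one] at h
  letI := inst
  have hA := isSpecial_quot hπ hR hlam
  have hof : ∀ (i : ℕ) (x : K), LambdaOps.lam i (AdjoinRoot.of p x) = AdjoinRoot.of p (LambdaOps.lam i x) :=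
    fun i x => by rw [← AdjoinRoot.mk_C, hlam, lam_C, AdjoinRoot.mk_C]
  set ℓ := AdjoinRoot.root p
  have hroot : ∀ i, 2 ≤ i → LambdaOps.lam i ℓ = 0 := fun i hi => by
    show LambdaOps.lam i (AdjoinRoot.root p) = 0
    rw [← AdjoinRoot.mk_X, hlam, lam_X h1 hi, map_zero]
  let ε : AdjoinRoot p →+* ℤ := AdjoinRoot.lift P.aug 1 (eval_extPoly hK he)
  have hε : ∀ x, ε (AdjoinRoot.of p x) = P.aug x := fun x => AdjoinRoot.lift_of _
  have hεℓ : ε ℓ = 1 := AdjoinRoot.lift_root _
  obtain ⟨r, hr⟩ : ∃ r : ℕ, P.aug e = r + 1 := ⟨((P.aug e) - 1).toNat, by have := P.aug_pos e he; omega⟩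
  set q := AdjoinRoot.of p e - ℓ
  have hrec : ∀ i, AdjoinRoot.of p (LambdaOps.lam (i + 1) e) = LambdaOps.lam (i + 1) q + LambdaOps.lam i q * ℓ := by
    intro i
    have h := congrArg (PowerSeries.coeff (i + 1)) ((lamSeries_add q ℓ).trans (congrArg (lamSeries q * ·)
      (lamSeries_of_line hroot)))
    rw [sub_add_cancel, mul_add, mul_one, map_add, ← mul_assoc, PowerSeries.coeff_succ_mul_X, PowerSeries.coeff_mul_C,
      coeff_lamSeries, coeff_lamSeries, coeff_lamSeries, hof] at h
    exact h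
  have hsum : ∀ i, LambdaOps.lam i q = ∑ j ∈ range (i + 1), AdjoinRoot.of p (LambdaOps.lam (i - j) e) * (-ℓ) ^ j := by
    intro i
    induction i with
    | zero => simp [LambdaOps.lam_zero]
    | succ i ih =>
      rw [Finset.sum_range_succ', Nat.sub_zero, pow_zero, mul_one, hrec i]
      rw [show ∑ k ∈ range (i + 1), AdjoinRoot.of p (LambdaOps.lam (i + 1 - (k + 1)) e) * (-ℓ) ^ (k + 1) =
        LambdaOps.lam i q * (-ℓ) by
        rw [ih, Finset.sum_mul]
        exact Finset.sum_congr rfl fun k _ => by rw [show i + 1 - (k + 1) = i - k by omega, pow_succ, mul_assoc]]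
      ring
  have htop : LambdaOps.lam (r + 1) q = 0 := by
    have hrel : ∑ i ∈ range (r + 2), AdjoinRoot.of p ((-1) ^ i * LambdaOps.lam i e) * ℓ ^ (r + 1 - i) = 0 := by
      have hps : p = ∑ i ∈ range (r + 2), Polynomial.C ((-1) ^ i * LambdaOps.lam i e) * Polynomial.X ^ (r + 1 - i) := by
        rw [hp, KRR.extPoly, show (P.aug e).toNat = r + 1 by omega]
      refine Eq.trans ?_ ((congrArg (AdjoinRoot.mk p) hps.symm).trans (AdjoinRoot.mk_self (f := p)))
      rw [map_sum]
      refine Finset.sum_congr rfl fun i _ => ?_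
      rw [map_mul (AdjoinRoot.mk _), map_pow (AdjoinRoot.mk _), AdjoinRoot.mk_C, AdjoinRoot.mk_X]
    rw [hsum, ← Finset.sum_range_reflect]
    have hu : ((-1 : AdjoinRoot p) ^ (r + 1)) * (-1) ^ (r + 1) = 1 := by
      rw [← pow_add, ← two_mul, pow_mul, neg_one_sq, one_pow]
    refine Eq.trans ?_ (mul_zero ((-1 : AdjoinRoot p) ^ (r + 1)))
    rw [← hrel, Finset.mul_sum]
    refine Finset.sum_congr rfl fun i hi => ?_
    rw [Finset.mem_range] at hi
    rw [show r + 1 + 1 - 1 - i = r + 1 - i by omega, show r + 1 - (r + 1 - i) = i by omega, map_mul, map_pow, map_neg,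
      map_one, neg_pow ℓ]
    have h2 : (-1 : AdjoinRoot p) ^ (r + 1) * (-1) ^ i = (-1) ^ (r + 1 - i) := by
      conv_lhs => rw [show r + 1 = (r + 1 - i) + i by omega, pow_add, mul_assoc, ← pow_add, ← two_mul, pow_mul,
        neg_one_sq, one_pow, mul_one]
    rw [← h2]
    ring
  have hvan : ∀ i, r < i → LambdaOps.lam i q = 0 := by
    intro i hi
    induction i with
    | zero => omega
    | succ i ih =>
      obtain rfl | hlt := (Nat.le_of_lt_succ hi).eq_or_lt
      · exact htop
      · have h := hrec i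
        rw [P.lam_eq_zero e he (i + 1) (by rw [hr]; push_cast; omega), map_zero, ih hlt, zero_mul, add_zero] at h
        exact h.symm
  have hunit : IsUnit (LambdaOps.lam r q * ℓ) := by
    have h := hrec r
    rw [htop, zero_add] at h
    rw [← h]
    have hu := P.isUnit_lam e he
    rw [show (P.aug e).toNat = r + 1 by omega] at hu
    exact hu.map _
  have hℓgood : Good ε ℓ := ⟨by rw [hεℓ]; norm_num, fun i hi => hroot i (by rw [hεℓ] at hi; omega), by
    rw [hεℓ, show (1 : ℤ).toNat = 1 from rfl, LambdaOps.lam_one]; exact isUnit_of_mul_isUnit_right hunit⟩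
  have hεq : ε q = r := by rw [map_sub, hε, hεℓ, hr]; ring
  have hPgood : ∀ a ∈ P.pos, Good ε (AdjoinRoot.of p a) := fun a ha =>
    ⟨by rw [hε]; exact P.aug_pos a ha, fun i hi => by rw [hof, P.lam_eq_zero a ha i (by rwa [hε] at hi), map_zero],
      by rw [hε, hof]; exact (P.isUnit_lam a ha).map _⟩
  let G : Set (AdjoinRoot p) :=
    (AdjoinRoot.of p '' P.pos) ∪ {ℓ} ∪ {x | 2 ≤ P.aug e ∧ x = q}
  let T : Subsemigroup (AdjoinRoot p) := Subsemigroup.closure G
  let Q : AddSubsemigroup (AdjoinRoot p) := AddSubsemigroup.closure (T : Set (AdjoinRoot p))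
  have hG : ∀ x ∈ G, Good ε x := by
    rintro x ((⟨a, ha, rfl⟩ | hx) | ⟨h2, rfl⟩)
    · exact hPgood a ha
    · obtain rfl := Set.mem_singleton_iff.1 hx; exact hℓgood
    · refine ⟨by rw [hεq]; omega, fun i hi => hvan i (by rw [hεq] at hi; omega), ?_⟩
      rw [hεq, Int.toNat_natCast]; exact isUnit_of_mul_isUnit_left hunit
  have hT : ∀ x ∈ T, Good ε x := fun x hx =>
    Subsemigroup.closure_induction (p := fun x _ => Good ε x) hG (fun _ _ _ _ ha hb => ha.mul hA hb) hx
  have hQ : ∀ x ∈ Q, Good ε x := fun x hx =>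
    AddSubsemigroup.closure_induction (p := fun x _ => Good ε x) hT (fun _ _ _ _ ha hb => ha.add hb) hx
  have hTQ : ∀ x ∈ T, x ∈ Q := fun x hx => AddSubsemigroup.subset_closure hx
  have hGQ : ∀ x ∈ G, x ∈ Q := fun x hx => hTQ x (Subsemigroup.subset_closure hx)
  have hmul : ∀ x y, x ∈ Q → y ∈ Q → x * y ∈ Q := by
    intro x y hx hy
    induction hx using AddSubsemigroup.closure_induction with
    | mem a ha =>
      induction hy using AddSubsemigroup.closure_induction with
      | mem b hb => exact hTQ _ (T.mul_mem ha hb)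
      | add b c _ _ hb hc => rw [mul_add]; exact Q.add_mem hb hc
    | add a b _ _ ha hb => rw [add_mul]; exact Q.add_mem ha hb
  have hsub : ∀ x, ∃ a b, a ∈ Q ∧ b ∈ Q ∧ x = a - b := by
    intro x
    obtain ⟨z, rfl⟩ := hπ x
    induction z using Polynomial.induction_on' with
    | add z w hz hw =>
      obtain ⟨a, b, ha, hb, h⟩ := hz
      obtain ⟨c, d, hc, hd, h'⟩ := hw
      exact ⟨a + c, b + d, Q.add_mem ha hc, Q.add_mem hb hd, by rw [map_add, h, h']; ring⟩
    | monomial k c =>
      obtain ⟨a, b, ha, hb, rfl⟩ := P.exists_sub c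
      have hmem : ∀ a ∈ P.pos, AdjoinRoot.of p a * ℓ ^ k ∈ Q := by
        intro a ha
        induction k with
        | zero => rw [pow_zero, mul_one]; exact hGQ _ (Or.inl (Or.inl ⟨a, ha, rfl⟩))
        | succ k ih =>
          rw [pow_succ, ← mul_assoc]
          exact hmul _ _ ih (hGQ _ (Or.inl (Or.inr rfl)))
      refine ⟨_, _, hmem a ha, hmem b hb, ?_⟩
      rw [← Polynomial.C_mul_X_pow_eq_monomial, map_mul, map_pow, AdjoinRoot.mk_C, AdjoinRoot.mk_X, map_sub, sub_mul]
  let Pe : PosStructure (AdjoinRoot p) :=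
    { aug := ε
      aug_surjective := fun n => ⟨(n : AdjoinRoot p), map_intCast ε n⟩
      pos := (Q : Set (AdjoinRoot p))
      add_mem := fun _ _ => Q.add_mem
      mul_mem := hmul
      natCast_mem := fun n hn => hGQ _ (Or.inl (Or.inl ⟨n, P.natCast_mem n hn, map_natCast _ n⟩))
      exists_sub := hsub
      aug_pos := fun x hx => (hQ x hx).1
      lam_eq_zero := fun x hx => (hQ x hx).2.1
      isUnit_lam := fun x hx => (hQ x hx).2.2 }
  refine ⟨inst, Pe, hof, hroot, ⟨fun i x => (hof i x).symm, ?_, hε, fun a ha => hGQ _ (Or.inl (Or.inl ⟨a, ha, rfl⟩))⟩,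
    ⟨hGQ _ (Or.inl (Or.inr rfl)), hεℓ⟩, fun h2 => hGQ _ (Or.inr ⟨h2, rfl⟩)⟩
  refine (injective_iff_map_eq_zero _).2 fun x hx => ?_
  rw [← AdjoinRoot.mk_C, AdjoinRoot.mk_eq_zero] at hx
  by_contra hne
  haveI : Nontrivial K := P.aug.domain_nontrivial
  refine (monic_extPoly P e).not_dvd_of_degree_lt (Polynomial.C_ne_zero.2 hne) ?_ hx
  refine lt_of_le_of_lt Polynomial.degree_C_le ?_
  rw [← Polynomial.natDegree_pos_iff_degree_pos]
  by_contra hd
  have h0 : KRR.extPoly P e = 1 := (monic_extPoly P e).natDegree_eq_zero.1 (by omega)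
  have := eval_extPoly hK he
  rw [h0, Polynomial.eval₂_one] at this
  exact one_ne_zero this

end Groth.Agent.LambdaExt28
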