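import Groth.Agent.LambdaExt28.Special
import Groth.Prelude.Def_KRR
import Mathlib.RingTheory.Polynomial.Vieta

/-!
# The λ-ring `K[T]` with `T` a line
-/

set_option autoImplicit false

universe u

open Finset LambdaRing Polynomial

noncomputable section

namespace Groth.Agent.LambdaExt28

open Groth.Agent.LambdaLib

variable {K : Type u} [CommRing K] [LambdaOps K]

/-- `λ_t` of the monomial `c T^k`. -/
def term (k : ℕ) (c : K) : PowerSeries K[X] :=
  PowerSeries.rescale ((Polynomial.X : K[X]) ^ k) (PowerSeries.map Polynomial.C (lamSeries c))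

theorem term_add (k : ℕ) (a b : K) : term k (a + b) = term k a * term k b := by
  rw [term, lamSeries_add, map_mul, map_mul]; rfl

theorem term_zero (k : ℕ) : term k (0 : K) = 1 := by rw [term, lamSeries_zero, map_one, map_one]

theorem coeff_term (k i : ℕ) (c : K) :
    PowerSeries.coeff i (term k c) = (Polynomial.X ^ k) ^ i * Polynomial.C (LambdaOps.lam i c) := by
  rw [term, PowerSeries.coeff_rescale, PowerSeries.coeff_map, coeff_lamSeries]

/-- `λ_t` on `K[T]`. -/
def polySeries (p : K[X]) : PowerSeries K[X] := ∏ k ∈ range (p.natDegree + 1), term k (p.coeff k)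

theorem polySeries_eq {p : K[X]} {N : ℕ} (h : p.natDegree < N) :
    polySeries p = ∏ k ∈ range N, term k (p.coeff k) := by
  refine Finset.prod_subset (fun k hk => ?_) fun k _ hk => ?_
  · simp only [Finset.mem_range] at hk ⊢; omega
  · simp only [Finset.mem_range] at hk
    rw [Polynomial.coeff_eq_zero_of_natDegree_lt (by omega), term_zero]

theorem polySeries_add (p q : K[X]) : polySeries (p + q) = polySeries p * polySeries q := by
  let N := p.natDegree + q.natDegree + (p + q).natDegree + 1
  rw [polySeries_eq (p := p + q) (N := N) (by omega), polySeries_eq (p := p) (N := N) (by omega),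
    polySeries_eq (p := q) (N := N) (by omega), ← Finset.prod_mul_distrib]
  exact Finset.prod_congr rfl fun k _ => by rw [Polynomial.coeff_add, term_add]

theorem coeff_zero_polySeries (p : K[X]) : PowerSeries.coeff 0 (polySeries p) = 1 := by
  rw [PowerSeries.coeff_zero_eq_constantCoeff_apply, polySeries, map_prod]
  refine Finset.prod_eq_one fun k _ => ?_
  rw [← PowerSeries.coeff_zero_eq_constantCoeff_apply, coeff_term, LambdaOps.lam_zero]
  simp

theorem coeff_one_prod {R : Type*} [CommRing R] {ι : Type*} (s : Finset ι) (f : ι → PowerSeries R)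
    (h : ∀ i ∈ s, PowerSeries.constantCoeff (f i) = 1) :
    PowerSeries.coeff 1 (∏ i ∈ s, f i) = ∑ i ∈ s, PowerSeries.coeff 1 (f i) := by
  classical
  induction s using Finset.induction with
  | empty => simp [PowerSeries.coeff_one]
  | insert a s ha ih =>
    rw [Finset.prod_insert ha, Finset.sum_insert ha, PowerSeries.coeff_one_mul,
      ih fun i hi => h i (Finset.mem_insert_of_mem hi), h a (Finset.mem_insert_self a s), map_prod,
      Finset.prod_eq_one fun i hi => h i (Finset.mem_insert_of_mem hi), mul_one, mul_one, add_comm]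

theorem coeff_one_polySeries (p : K[X]) : PowerSeries.coeff 1 (polySeries p) = p := by
  rw [polySeries, coeff_one_prod _ _ fun k _ => by
    rw [← PowerSeries.coeff_zero_eq_constantCoeff_apply, coeff_term, LambdaOps.lam_zero]; simp]
  conv_rhs => rw [p.as_sum_range_C_mul_X_pow]
  exact Finset.sum_congr rfl fun k _ => by rw [coeff_term, LambdaOps.lam_one, pow_one, mul_comm]

/-- The λ-structure on `K[T]` with `T` a line. -/
@[reducible] def polyOps : LambdaOps K[X] where
  lam i p := PowerSeries.coeff i (polySeries p)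
  lam_zero := coeff_zero_polySeries
  lam_one := coeff_one_polySeries
  lam_add k p q := by
    rw [polySeries_add, PowerSeries.coeff_mul, Finset.Nat.sum_antidiagonal_eq_sum_range_succ_mk]

attribute [local instance] polyOps

theorem lamSeries_eq (p : K[X]) : lamSeries p = polySeries p := PowerSeries.ext fun i => coeff_lamSeries i p

theorem lam_monomial (i k : ℕ) (c : K) :
    LambdaOps.lam i (Polynomial.monomial k c) = Polynomial.monomial (k * i) (LambdaOps.lam i c) := by
  show PowerSeries.coeff i (polySeries (Polynomial.monomial k c)) = _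
  rw [polySeries_eq (N := k + 1) (Nat.lt_succ_of_le (Polynomial.natDegree_monomial_le c)),
    Finset.prod_eq_single k (fun j _ hj => by rw [Polynomial.coeff_monomial, if_neg (Ne.symm hj), term_zero])
      (fun h => absurd (Finset.self_mem_range_succ k) h),
    Polynomial.coeff_monomial, if_pos rfl, coeff_term, ← pow_mul, mul_comm, Polynomial.C_mul_X_pow_eq_monomial]

theorem lam_C (i : ℕ) (c : K) : LambdaOps.lam i (Polynomial.C c) = Polynomial.C (LambdaOps.lam i c) := by
  have h := lam_monomial i 0 c
  rwa [zero_mul, Polynomial.monomial_zero_left, Polynomial.monomial_zero_left] at h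

theorem lam_X (h1 : ∀ j, 2 ≤ j → LambdaOps.lam j (1 : K) = 0) {i : ℕ} (hi : 2 ≤ i) :
    LambdaOps.lam i (Polynomial.X : K[X]) = 0 := by
  rw [← Polynomial.monomial_one_one_eq_X, lam_monomial, h1 i hi, map_zero]

variable {K' : Type u} [CommRing K'] [LambdaOps K']

theorem map_polySeries {f : K →+* K'} (hf : ∀ i x, f (LambdaOps.lam i x) = LambdaOps.lam i (f x)) (i : ℕ)
    (p : K[X]) : (LambdaOps.lam i p).map f = LambdaOps.lam i (p.map f) := by
  show (PowerSeries.coeff i (polySeries p)).map f = PowerSeries.coeff i (polySeries (p.map f))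
  rw [polySeries_eq (p := p.map f) (N := p.natDegree + 1) (Nat.lt_succ_of_le Polynomial.natDegree_map_le),
    ← Polynomial.coe_mapRingHom, ← PowerSeries.coeff_map, polySeries, map_prod]
  refine congrArg _ (Finset.prod_congr rfl fun k _ => ?_)
  ext1 j
  rw [PowerSeries.coeff_map, coeff_term, coeff_term, Polynomial.coe_mapRingHom, Polynomial.coeff_map]
  simp [hf]

/-- The lines `u T^k`. -/
def polyLines (P : PosStructure K) : Submonoid K[X] where
  carrier := {p | ∃ k u, P.IsLine u ∧ p = Polynomial.monomial k u}
  one_mem' := ⟨0, 1, isLine_one P, by simp⟩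
  mul_mem' := by
    rintro _ _ ⟨k, a, ha, rfl⟩ ⟨l, b, hb, rfl⟩
    exact ⟨k + l, a * b, isLine_mul P ha hb, Polynomial.monomial_mul_monomial _ _ _ _⟩

theorem lam_polyLines (P : PosStructure K) {w : K[X]} (hw : w ∈ polyLines P) (j : ℕ) (hj : 2 ≤ j) :
    LambdaOps.lam j w = 0 := by
  obtain ⟨k, a, ha, rfl⟩ := hw
  rw [lam_monomial, lam_line_eq_zero P ha j hj, map_zero]

theorem monomial_mem_closure (P : PosStructure K) {e : K} (h : IsSumLines P e) (k : ℕ) :
    Polynomial.monomial k e ∈ AddSubgroup.closure (polyLines P : Set K[X]) := by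
  obtain ⟨s, hs, rfl⟩ := h
  rw [map_multiset_sum]
  refine multiset_sum_mem _ fun p hp => ?_
  obtain ⟨a, ha, rfl⟩ := Multiset.mem_map.1 hp
  exact AddSubgroup.subset_closure ⟨k, a, hs a ha, rfl⟩

theorem map_mem_closure {P : PosStructure K} {P' : PosStructure K'} {f : K →+* K'} (a b : ℕ → K) {N : ℕ} (p : K[X])
    (hN : p.natDegree < N) (hab : ∀ k, p.coeff k = a k - b k)
    (ha : ∀ k < N, IsSumLines P' (f (a k)) ∧ IsSumLines P' (f (b k))) :
    p.map f ∈ AddSubgroup.closure (polyLines P' : Set K'[X]) := by
  have _ := P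
  rw [p.as_sum_range' N hN, Polynomial.map_sum]
  refine sum_mem fun k hk => ?_
  rw [Polynomial.map_monomial, hab, map_sub, map_sub]
  exact sub_mem (monomial_mem_closure P' (ha k (Finset.mem_range.1 hk)).1 k)
    (monomial_mem_closure P' (ha k (Finset.mem_range.1 hk)).2 k)

/-- `K[T]` is special. -/
theorem isSpecial_poly {P : PosStructure K} (hK : HasSplitting K P) : IsSpecial K[X] := by
  refine isSpecial_of_split.{u, u} (fun j hj => ?_) fun x y => ?_
  · rw [← map_one (Polynomial.C : K →+* K[X]), lam_C, lam_one_eq_zero P j hj, map_zero]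
  choose a b ha hb hab using P.exists_sub
  let N := x.natDegree + y.natDegree + 1
  let l : List K := ((List.range N).flatMap fun k => [a (x.coeff k), b (x.coeff k), a (y.coeff k), b (y.coeff k)])
  obtain ⟨L, f, hf, -, h⟩ := exists_ext_split hK l fun e he => by
    simp only [l, List.mem_flatMap, List.mem_cons, List.not_mem_nil, or_false] at he
    obtain ⟨k, -, rfl | rfl | rfl | rfl⟩ := he
    · exact ha _
    · exact hb _
    · exact ha _
    · exact hb _
  refine ⟨L.carrier[X], inferInstance, inferInstance, polyLines L.posStr, Polynomial.mapRingHom f,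
    fun w hw => lam_polyLines L.posStr hw, Polynomial.map_injective f hf.injective,
    fun i p => map_polySeries hf.isLambdaHom i p, ?_, ?_⟩
  · refine map_mem_closure (P := P) (fun k => a (x.coeff k)) (fun k => b (x.coeff k)) (N := N) x (by omega) (fun k => hab _)
      fun k hk => ⟨h _ ?_, h _ ?_⟩ <;> exact List.mem_flatMap.2 ⟨k, List.mem_range.2 hk, by simp⟩
  · refine map_mem_closure (P := P) (fun k => a (y.coeff k)) (fun k => b (y.coeff k)) (N := N) y (by omega) (fun k => hab _)
      fun k hk => ⟨h _ ?_, h _ ?_⟩ <;> exact List.mem_flatMap.2 ⟨k, List.mem_range.2 hk, by simp⟩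

theorem X_sub_C_dvd_lam (h1 : ∀ j, 2 ≤ j → LambdaOps.lam j (1 : K) = 0) {u : K}
    (hu : ∀ j, 2 ≤ j → LambdaOps.lam j u = 0) : ∀ j, 1 ≤ j →
      (Polynomial.X - Polynomial.C u : K[X]) ∣ LambdaOps.lam j (Polynomial.X - Polynomial.C u) := by
  set d : K[X] := Polynomial.X - Polynomial.C u
  have hC : ∀ j, 2 ≤ j → LambdaOps.lam j (Polynomial.C u) = 0 := fun j hj => by rw [lam_C, hu j hj, map_zero]
  have hS : lamSeries d * (1 + PowerSeries.C (Polynomial.C u) * PowerSeries.X) =
      1 + PowerSeries.C (Polynomial.X : K[X]) * PowerSeries.X := by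
    rw [← lamSeries_of_line hC, ← lamSeries_add, sub_add_cancel, lamSeries_of_line fun j hj => lam_X h1 hj]
  intro j hj
  induction j using Nat.strong_induction_on with
  | _ j ih =>
    obtain rfl | hj2 := hj.eq_or_lt
    · rw [LambdaOps.lam_one]
    obtain ⟨i, rfl⟩ : ∃ i, j = i + 1 := ⟨j - 1, by omega⟩
    have h := congrArg (PowerSeries.coeff (i + 1)) hS
    rw [mul_add, mul_one, map_add, ← mul_assoc, PowerSeries.coeff_succ_mul_X, PowerSeries.coeff_mul_C, map_add,
      PowerSeries.coeff_one, if_neg (Nat.succ_ne_zero i), zero_add, PowerSeries.coeff_succ_mul_X,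
      PowerSeries.coeff_C, if_neg (by omega), coeff_lamSeries, coeff_lamSeries] at h
    rw [eq_neg_of_add_eq_zero_left h]
    exact ((ih i (by omega) (by omega)).mul_right _).neg_right

/-- The defining polynomial divides its λ-operations. -/
theorem extPoly_dvd_lam {P : PosStructure K} (hK : HasSplitting K P) {e : K} (he : e ∈ P.pos) (j : ℕ) (hj : 1 ≤ j) :
    KRR.extPoly P e ∣ LambdaOps.lam j (KRR.extPoly P e) := by
  obtain ⟨L, f, hf, hL, h⟩ := exists_ext_split hK [e] (by simpa using he)
  obtain ⟨s, hs, hse⟩ := h e List.mem_cons_self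
  have hcard : (P.aug e).toNat = Multiset.card s := by
    rw [← hf.aug_comp, ← hse, aug_multiset_sum_lines _ hs, Int.toNat_natCast]
  have hmap : (KRR.extPoly P e).map f = (s.map fun a => Polynomial.X - Polynomial.C a).prod := by
    rw [KRR.extPoly, Polynomial.map_sum, Multiset.prod_X_sub_X_eq_sum_esymm, hcard]
    refine Finset.sum_congr rfl fun i _ => ?_
    rw [Polynomial.map_mul, Polynomial.map_pow, Polynomial.map_X, Polynomial.map_C, map_mul, map_pow, map_neg, map_one,
      hf.isLambdaHom, ← hse]
    have : LambdaOps.lam i s.sum = s.esymm i := by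
      rw [← coeff_lamSeries, lamSeries_multiset_sum, ← coeff_rootSeries, rootSeries]
      exact congrArg (fun t => PowerSeries.coeff i (Multiset.prod t))
        (Multiset.map_congr rfl fun a ha => lamSeries_of_line (lam_line_eq_zero _ (hs a ha)))
    rw [this, map_mul, map_pow, map_neg, map_one, mul_assoc]
  have hm : (KRR.extPoly P e).Monic := by
    haveI : Nontrivial K := P.aug.domain_nontrivial
    rw [KRR.extPoly, Finset.sum_range_succ']
    simp only [pow_zero, one_mul, LambdaOps.lam_zero, map_one, Nat.sub_zero]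
    refine (Polynomial.monic_X_pow _).add_of_right ?_
    refine lt_of_le_of_lt (Polynomial.degree_sum_le _ _) ?_
    rw [Polynomial.degree_X_pow, Finset.sup_lt_iff (WithBot.bot_lt_coe _)]
    intro i hi
    rw [Finset.mem_range] at hi
    refine lt_of_le_of_lt (Polynomial.degree_C_mul_X_pow_le _ _) ?_
    exact Nat.cast_lt.2 (by omega)
  rw [← Polynomial.map_dvd_map f hf.injective hm, map_polySeries hf.isLambdaHom, hmap]
  exact prod_dvd_lam (isSpecial_poly hL) s _
    (fun a ha => X_sub_C_dvd_lam (lam_one_eq_zero L.posStr) (lam_line_eq_zero _ (hs a ha))) j hj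

end Groth.Agent.LambdaExt28
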