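import Groth.Agent.LambdaLib.LineGen
import Groth.Agent.LambdaLib.Pos
import Groth.Agent.LambdaLib.Lines
import Groth.Agent.LambdaLib.UniversalComp

/-!
# Products in special λ-rings
-/

set_option autoImplicit false

universe u

open Finset LambdaRing MvPolynomial

namespace Groth.Agent.LambdaExt28

open Groth.Agent.LambdaLib

/-- The line elements of a positive structure. -/
def lineMonoid {K : Type u} [CommRing K] [LambdaOps K] (P : PosStructure K) : Submonoid K where
  carrier := {x | P.IsLine x}
  one_mem' := isLine_one P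
  mul_mem' := isLine_mul P

theorem mem_closure_of_isSumLines {K : Type u} [CommRing K] [LambdaOps K] {P : PosStructure K} {e : K}
    (h : IsSumLines P e) : e ∈ AddSubgroup.closure (lineMonoid P : Set K) := by
  obtain ⟨s, hs, rfl⟩ := h
  exact multiset_sum_mem _ fun u hu => AddSubgroup.subset_closure (hs u hu)

/-- A λ-ring with the splitting property is special. -/
theorem isSpecial_of_hasSplitting {K : Type u} [CommRing K] [LambdaOps K] {P : PosStructure K}
    (hK : HasSplitting K P) : IsSpecial K := by
  refine isSpecial_of_split.{u, u} (lam_one_eq_zero P) fun x y => ?_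
  obtain ⟨a, b, ha, hb, rfl⟩ := P.exists_sub x
  obtain ⟨c, d, hc, hd, rfl⟩ := P.exists_sub y
  obtain ⟨L, f, hf, -, h⟩ := exists_ext_split hK [a, b, c, d] (by simp [ha, hb, hc, hd])
  refine ⟨L.carrier, inferInstance, inferInstance, lineMonoid L.posStr, f,
    fun w hw => lam_line_eq_zero L.posStr hw, hf.injective, hf.isLambdaHom, ?_, ?_⟩
  · rw [map_sub]
    exact sub_mem (mem_closure_of_isSumLines (h a (by simp))) (mem_closure_of_isSumLines (h b (by simp)))
  · rw [map_sub]
    exact sub_mem (mem_closure_of_isSumLines (h c (by simp))) (mem_closure_of_isSumLines (h d (by simp)))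

variable {A : Type u} [CommRing A] [LambdaOps A]

theorem esymm_card_eq_prod {R : Type*} [CommRing R] (s : Multiset R) : s.esymm (Multiset.card s) = s.prod := by
  induction s using Multiset.induction with
  | empty => simp [Multiset.esymm]
  | cons a s ih =>
    rw [Multiset.card_cons, esymm_cons_succ, ih, Multiset.prod_cons]
    have : s.esymm (Multiset.card s + 1) = 0 := by
      rw [Multiset.esymm, Multiset.powersetCard_eq_empty _ (Nat.lt_succ_self _)]; rfl
    rw [this, zero_add]

/-- The rank and the top operation of a product. -/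
theorem lam_mul_top (hA : IsSpecial A) {r s : ℕ} (hr : 1 ≤ r) (hs : 1 ≤ s) {x y : A}
    (hx : ∀ i, r < i → LambdaOps.lam i x = 0) (hy : ∀ i, s < i → LambdaOps.lam i y = 0) :
    (∀ n, r * s < n → LambdaOps.lam n (x * y) = 0) ∧
      LambdaOps.lam (r * s) (x * y) = LambdaOps.lam r x ^ s * LambdaOps.lam s y ^ r := by
  classical
  obtain ⟨r, rfl⟩ : ∃ r', r = r' + 1 := ⟨r - 1, by omega⟩
  obtain ⟨s, rfl⟩ : ∃ s', s = s' + 1 := ⟨s - 1, by omega⟩
  let M := MvPolynomial (Fin (r + 1) ⊕ Fin (s + 1)) ℤ
  let E : M →ₐ[ℤ] M := aeval (esymmPair ℤ (r + 1) (s + 1))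
  let ev : M →ₐ[ℤ] A := aeval (Sum.elim (fun k : Fin (r + 1) => LambdaOps.lam ((k : ℕ) + 1) x)
    (fun k : Fin (s + 1) => LambdaOps.lam ((k : ℕ) + 1) y))
  let S : Multiset M := (univ : Finset (Fin (r + 1))).val.map fun i => X (Sum.inl i)
  let T : Multiset M := (univ : Finset (Fin (s + 1))).val.map fun i => X (Sum.inr i)
  have key : ∀ n : ℕ, ∃ F : M, E F = (prodPairs S T).esymm n ∧ LambdaOps.lam n (x * y) = ev F := by
    intro n
    obtain ⟨P, hP⟩ := exists_isMulPoly n
    let g : Fin n ⊕ Fin n → M :=
      Sum.elim (fun k => if h : (k : ℕ) < r + 1 then X (Sum.inl ⟨k, h⟩) else 0)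
        (fun k => if h : (k : ℕ) < s + 1 then X (Sum.inr ⟨k, h⟩) else 0)
    refine ⟨aeval g P, ?_, ?_⟩
    · rw [← AlgHom.comp_apply, comp_aeval, ← mulPoly_eval hP S T]
      refine congrArg (fun v => aeval v P) (funext fun k => ?_)
      rcases k with k | k
      · simp only [g, Sum.elim_inl]
        split_ifs with h
        · show aeval (esymmPair ℤ (r + 1) (s + 1)) (X _) = _
          simp only [aeval_X, esymmPair, Sum.elim_inl, esymm_eq_multiset_esymm]
          rw [← AlgHom.coe_toRingHom, map_esymm', Multiset.map_map]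
          simp [S, Function.comp_def]
        · rw [map_zero, Multiset.esymm, Multiset.powersetCard_eq_empty _ (by simp [S]; omega)]; rfl
      · simp only [g, Sum.elim_inr]
        split_ifs with h
        · show aeval (esymmPair ℤ (r + 1) (s + 1)) (X _) = _
          simp only [aeval_X, esymmPair, Sum.elim_inr, esymm_eq_multiset_esymm]
          rw [← AlgHom.coe_toRingHom, map_esymm', Multiset.map_map]
          simp [T, Function.comp_def]
        · rw [map_zero, Multiset.esymm, Multiset.powersetCard_eq_empty _ (by simp [T]; omega)]; rfl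
    · rw [hA.lam_mul n P hP, ← AlgHom.comp_apply ev, comp_aeval]
      refine congrArg (fun v => aeval v P) (funext fun k => ?_)
      rcases k with k | k
      · simp only [g, Sum.elim_inl]
        split_ifs with h
        · show _ = aeval _ (X _)
          rw [aeval_X]
          rfl
        · rw [map_zero, hx _ (by omega)]
      · simp only [g, Sum.elim_inr]
        split_ifs with h
        · show _ = aeval _ (X _)
          rw [aeval_X]
          rfl
        · rw [map_zero, hy _ (by omega)]
  have hinj : Function.Injective E := aeval_esymmPair_injective ℤ (r + 1) (s + 1)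
  have hcard : Multiset.card (prodPairs S T) = (r + 1) * (s + 1) := by
    rw [prodPairs, Multiset.card_map, Multiset.card_product]
    simp only [S, T, Multiset.card_map, Finset.card_val, Finset.card_univ, Fintype.card_fin]
  refine ⟨fun n hn => ?_, ?_⟩
  · obtain ⟨F, hF, hF'⟩ := key n
    rw [hF', show F = 0 from hinj (by
      rw [hF, map_zero, Multiset.esymm, Multiset.powersetCard_eq_empty _ (hcard.trans_lt hn)]; rfl), map_zero]
  · obtain ⟨F, hF, hF'⟩ := key ((r + 1) * (s + 1))
    have e : F = X (Sum.inl (Fin.last r)) ^ (s + 1) * X (Sum.inr (Fin.last s)) ^ (r + 1) := by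
      refine hinj ?_
      have hl : E (X (Sum.inl (Fin.last r))) = ∏ i : Fin (r + 1), X (Sum.inl i) := by
        show aeval (esymmPair ℤ (r + 1) (s + 1)) (X _) = _
        simp only [aeval_X, esymmPair, Sum.elim_inl, esymm, map_sum, map_prod, rename_X, Fin.val_last]
        rw [powersetCard_univ_self, Finset.sum_singleton]
      have hr' : E (X (Sum.inr (Fin.last s))) = ∏ i : Fin (s + 1), X (Sum.inr i) := by
        show aeval (esymmPair ℤ (r + 1) (s + 1)) (X _) = _
        simp only [aeval_X, esymmPair, Sum.elim_inr, esymm, map_sum, map_prod, rename_X, Fin.val_last]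
        rw [powersetCard_univ_self, Finset.sum_singleton]
      rw [hF, map_mul, map_pow, map_pow, hl, hr', ← hcard, esymm_card_eq_prod]
      show (prodPairs S T).prod = _
      rw [← univ_prod_map]
      show ∏ p : Fin (r + 1) × Fin (s + 1), (X (Sum.inl p.1) * X (Sum.inr p.2) : M) = _
      rw [Fintype.prod_prod_type]
      simp only [Finset.prod_mul_distrib, Finset.prod_const, Finset.card_univ, Fintype.card_fin]
      rw [Finset.prod_pow]
    rw [hF', e, map_mul, map_pow, map_pow]
    show aeval _ (X _) ^ _ * aeval _ (X _) ^ _ = _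
    rw [aeval_X, aeval_X]
    rfl

/-- Divisibility of the operations is multiplicative. -/
theorem dvd_lam_mul (hA : IsSpecial A) {a b x y : A} (ha : ∀ j, 1 ≤ j → a ∣ LambdaOps.lam j x)
    (hb : ∀ j, 1 ≤ j → b ∣ LambdaOps.lam j y) (p : ℕ) (hp : 1 ≤ p) : a * b ∣ LambdaOps.lam p (x * y) := by
  obtain ⟨P, hP⟩ := exists_isMulPoly p
  rw [hA.lam_mul p P hP, aeval_def, eval₂_eq]
  refine Finset.dvd_sum fun s hs => dvd_mul_of_dvd_right ?_ _
  have hw : Finsupp.weight (mulW p p) s = ((p, p) : ℕ × ℕ) := hP.2 (MvPolynomial.mem_support_iff.mp hs)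
  rw [Finsupp.weight_apply, Finsupp.sum_fintype _ _ (fun i => by simp), Fintype.sum_sum_type] at hw
  obtain ⟨k, hk⟩ : ∃ k : Fin p, s (Sum.inl k) ≠ 0 := by
    by_contra! h0
    have h1 := congrArg Prod.fst hw
    simp [mulW, h0, Prod.fst_sum] at h1
    omega
  obtain ⟨l, hl⟩ : ∃ l : Fin p, s (Sum.inr l) ≠ 0 := by
    by_contra! h0
    have h1 := congrArg Prod.snd hw
    simp [mulW, h0, Prod.snd_sum] at h1
    omega
  rw [← Finset.mul_prod_erase _ _ (Finsupp.mem_support_iff.mpr hk)]
  refine mul_dvd_mul (dvd_pow (ha _ (by omega)) hk) ?_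
  refine dvd_trans ?_ (Finset.dvd_prod_of_mem _ (Finset.mem_erase.2 ⟨Sum.inr_ne_inl, Finsupp.mem_support_iff.mpr hl⟩))
  exact dvd_pow (hb _ (by omega)) hl

theorem prod_dvd_lam (hA : IsSpecial A) {ι : Type*} (s : Multiset ι) (f : ι → A)
    (h : ∀ i ∈ s, ∀ j, 1 ≤ j → f i ∣ LambdaOps.lam j (f i)) :
    ∀ j, 1 ≤ j → (s.map f).prod ∣ LambdaOps.lam j (s.map f).prod := by
  induction s using Multiset.induction with
  | empty => intro j _; simp
  | cons a s ih =>
    rw [Multiset.map_cons, Multiset.prod_cons]
    exact dvd_lam_mul hA (h a (Multiset.mem_cons_self a s)) (ih fun i hi => h i (Multiset.mem_cons_of_mem hi))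

end Groth.Agent.LambdaExt28
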